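import Cfsg.Agent.RuAut.Main
import Cfsg.Agent.Coset.Ru.Out.Main

/-! The outer automorphism group of the Rudvalis group is trivial. -/

set_option autoImplicit false

namespace CfsgLib.RuAut

theorem inn_eq_top : Cfsg.Inn Cfsg.Spor.Ru = ⊤ := by
  obtain ⟨e⟩ := nonempty_equiv
  refine eq_top_iff.mpr fun φ _ => ?_
  obtain ⟨y, hy⟩ := Coset.Ru.Out.inner (e.symm.trans (φ.trans e))
  refine ⟨e.symm y, MulEquiv.ext fun z => e.injective ?_⟩
  have h : y * e z * y⁻¹ = e (φ z) := by simpa using DFunLike.congr_fun hy (e z)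
  simpa using h

theorem card_out : Nat.card (Cfsg.Out Cfsg.Spor.Ru) = 1 := by
  show (Cfsg.Inn Cfsg.Spor.Ru).index = 1
  rw [inn_eq_top, Subgroup.index_top]

end CfsgLib.RuAut
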